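import Cfsg.Agent.H255.Inv.Face
import Cfsg.Agent.Nodes.RGDChev
import Cfsg.Agent.ChevalleyStructure.BruhatSplit
import Cfsg.Agent.S1030

/-!
# The nodes of the Chevalley groups of odd characteristic (helper724, task 3506, S3830)

`nodeOK_chev` : `NodeOK` for all nodes of `G2`, `F4`, `E6`, `E7`, `E8`.
-/

set_option autoImplicit false
set_option linter.unusedSectionVars false

namespace Cfsg.Agent.H724.Inv.NodeChev

open Cfsg Cfsg.Lie Cfsg.Agent.ChevalleyStructure Cfsg.Agent.ChevalleyStructure.Elts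
  Cfsg.Agent.Nodes.RGDChev Cfsg.Agent.ChevalleyStructure.BruhatSplit Cfsg.Agent.ChevalleyStructure.CoxeterGeom
  Cfsg.Agent.Nodes.Comb Cfsg.Agent.Nodes.Reps Cfsg.Agent.ChevalleyStructure.RootVec
  Cfsg.Agent.ChevalleyStructure.RootVecTab Cfsg.Agent.ChevalleyStructure.NPerm
  Cfsg.Agent.ChevalleyStructure.CoxeterGeomTypes Cfsg.Agent.Tits.Roots
open Cfsg.Agent.ChevalleyStructure.SL2Hom (up lo)

variable {D : ChevalleyDatum} {l : ℕ} {M : CoxeterMatrix (Fin l)}

theorem cartan_neg (hp : IsType D l M) (j : Fin l) {r : ℕ} (hr : r < D.nroots) :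
    D.cartan j (D.neg r) = - D.cartan j r := by
  rw [← pairing_vec hp j (neg_lt hp.inList hr), ← pairing_vec hp j hr, vec_neg hp hr]
  unfold pairing
  simp

/-- a neighbour with odd Cartan integer -/
theorem exists_odd (hp : IsType D l M) (hB : D ≠ chevB2) (i : Fin l) : ∃ j : Fin l, Odd (D.cartan j (D.simple i)) := by
  have key : ∀ D' : ChevalleyDatum, ∀ n : ℕ, D' ∈ [chevG2, chevD4, chevF4, chevE6, chevE7, chevE8] → D'.rank = n →
      ∀ i : Fin n, ∃ j : Fin n, Odd (D'.cartan j (D'.simple i)) := by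
    intro D' n hD' hn
    simp only [List.mem_cons, List.not_mem_nil, or_false] at hD'
    subst hn
    rcases hD' with rfl | rfl | rfl | rfl | rfl | rfl
    · decide +kernel
    · decide +kernel
    · decide +kernel
    · decide +kernel
    · decide +kernel
    · decide +kernel
  refine key D l ?_ hp.rank_eq i
  have := hp.inList
  simp only [InList, List.mem_cons, List.not_mem_nil, or_false] at this ⊢
  tauto

theorem neg_one_zpow {F : Type*} [Field F] {n : ℤ} (h : Odd n) : (-1 : F) ^ n = -1 := h.neg_one_zpow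

/-- `h_r(-1)² = 1` -/
theorem hG_sq {F : Type*} [Field F] (hD : InList D) {r : ℕ} (hr : r < D.nroots) :
    hG hD r (-1 : F) * hG hD r (-1 : F) = 1 := by
  obtain ⟨φ, -, hφ⟩ := S1030.result (F := F) D hD r hr
  have hu : ∀ t : F, φ (up t) = xG hD r t := fun t => Units.ext ((hφ (up t) t).1 rfl)
  have hl : ∀ t : F, φ (lo t) = xG hD (D.neg r) t := fun t => Units.ext ((hφ (lo t) t).2 rfl)
  have hn : nG hD r (-1 : F) = φ (up (-1) * (lo 1 * up (-1))) := by
    rw [nG_def, map_mul, map_mul, hu, hl]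
    congr 3
    rw [inv_neg, inv_one, _root_.neg_neg]
  have h1 : (up (-1 : F) * (lo 1 * up (-1))) * (up (-1 : F) * (lo 1 * up (-1))) *
      ((up (-1 : F) * (lo 1 * up (-1))) * (up (-1 : F) * (lo 1 * up (-1)))) = 1 := by
    apply Subtype.ext
    show (!![1, -1; 0, 1] * (!![1, 0; 1, 1] * !![1, -1; 0, 1])) * (!![1, -1; 0, 1] * (!![1, 0; 1, 1] * !![1, -1; 0, 1])) *
      ((!![1, -1; 0, 1] * (!![1, 0; 1, 1] * !![1, -1; 0, 1])) * (!![1, -1; 0, 1] * (!![1, 0; 1, 1] * !![1, -1; 0, 1]))) =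
      (1 : Matrix (Fin 2) (Fin 2) F)
    rw [Matrix.one_fin_two]
    simp
  rw [hG_def, hn, ← map_mul, ← map_mul, h1, map_one]

/-- **the nodes** -/
theorem nodeOK_chev (hp : IsType D l M) (hB : D ≠ chevB2) {F : Type} [Field F] [Finite F] (h2 : (2 : F) ≠ 0)
    (i : Fin l) : H255.Inv.NodeOK ((D.diagonalSubgroup F).subgroupOf (D.group F))
      (fun x => (XV D l F x).subgroupOf (D.group F)) i := by
  obtain ⟨j, hj⟩ := exists_odd hp hB i
  have hi := simple_lt hp.inList (lt_rank hp i)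
  have hj' := simple_lt hp.inList (lt_rank hp j)
  obtain ⟨φ, hφr, hφ⟩ := S1030.result (F := F) D hp.inList (D.simple i) hi
  have hu : ∀ t : F, φ (up t) = xG hp.inList (D.simple i) t := fun t => Units.ext ((hφ (up t) t).1 rfl)
  have hl : ∀ t : F, φ (lo t) = xG hp.inList (D.neg (D.simple i)) t := fun t => Units.ext ((hφ (lo t) t).2 rfl)
  have hrange : ∀ g, φ g ∈ D.group F := by
    intro g
    have h1 : φ g ∈ φ.range := ⟨g, rfl⟩
    rw [hφr] at h1
    refine (sup_le ?_ ?_ : D.rootSubgroup F (D.simple i) ⊔ D.rootSubgroup F (D.neg (D.simple i)) ≤ D.group F) h1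
    · intro x hx
      obtain ⟨t, rfl⟩ := (mem_rootSubgroup_iff hp.inList _ x).1 hx
      exact xG_mem_group _ _ _
    · intro x hx
      obtain ⟨t, rfl⟩ := (mem_rootSubgroup_iff hp.inList _ x).1 hx
      exact xG_mem_group _ _ _
  let ψ : Matrix.SpecialLinearGroup (Fin 2) F →* ↥(D.group F) := φ.codRestrict (D.group F) hrange
  let y : ↥(D.group F) := ⟨hG hp.inList (D.simple j) (-1), Elts.hG_mem_group hp.inList _ _⟩
  have hyu : ∀ a : F, y * ψ (up a) * y⁻¹ = ψ (up (-a)) := by
    intro a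
    apply Subtype.ext
    show hG hp.inList (D.simple j) (-1) * φ (up a) * (hG hp.inList (D.simple j) (-1))⁻¹ = φ (up (-a))
    rw [hu, hu, hG_simple_conj hp.inList (lt_rank hp j) hi (neg_ne_zero.2 one_ne_zero), neg_one_zpow hj, neg_one_mul]
  have hyl : ∀ a : F, y * ψ (lo a) * y⁻¹ = ψ (lo (-a)) := by
    intro a
    apply Subtype.ext
    show hG hp.inList (D.simple j) (-1) * φ (lo a) * (hG hp.inList (D.simple j) (-1))⁻¹ = φ (lo (-a))
    rw [hl, hl, hG_simple_conj hp.inList (lt_rank hp j) (neg_lt hp.inList hi) (neg_ne_zero.2 one_ne_zero),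
      cartan_neg hp j hi, neg_one_zpow hj.neg, neg_one_mul]
  refine ⟨F, inferInstance, inferInstance, ψ, y, h2, ?_, ?_, ?_, ?_, ?_, ?_, hyu, hyl⟩
  · intro a
    show φ (up a) ∈ XV D l F (sr i)
    rw [hu, XV_sr hp i]
    exact xG_mem_rootSubgroup _ _ _
  · intro u hu'
    have h1 : (u : GL D.Idx F) ∈ XV D l F (sr i) := hu'
    rw [XV_sr hp i] at h1
    obtain ⟨t, ht⟩ := (mem_rootSubgroup_iff hp.inList _ _).1 h1
    exact ⟨t, Subtype.ext (by show (u : GL D.Idx F) = φ (up t); rw [hu, ht])⟩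
  · intro a
    show φ (lo a) ∈ XV D l F (-sr i)
    rw [hl, XV_neg_sr hp i]
    exact xG_mem_rootSubgroup _ _ _
  · intro u hu'
    have h1 : (u : GL D.Idx F) ∈ XV D l F (-sr i) := hu'
    rw [XV_neg_sr hp i] at h1
    obtain ⟨t, ht⟩ := (mem_rootSubgroup_iff hp.inList _ _).1 h1
    exact ⟨t, Subtype.ext (by show (u : GL D.Idx F) = φ (lo t); rw [hl, ht])⟩
  · exact hG_mem_diagonal hp.inList hj' (neg_ne_zero.2 one_ne_zero)
  · apply orderOf_eq_prime
    · rw [pow_two]
      exact Subtype.ext (hG_sq hp.inList hj')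
    · intro hy
      have h1 := hyu 1
      rw [hy, one_mul, inv_one, mul_one] at h1
      have h3 : xG hp.inList (D.simple i) (1 : F) = xG hp.inList (D.simple i) (-1) := by
        rw [← hu, ← hu]; exact congrArg Subtype.val h1
      have h4 := xG_injective hp.inList hi h3
      apply h2
      have : (2 : F) = 1 - (-1) := by ring
      rw [this, ← h4, sub_self]

end Cfsg.Agent.H724.Inv.NodeChev
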