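import Mathlib
import Cfsg.Agent.H605.Exc.InnerExc
import Cfsg.Agent.H724.Inv.RadNorm

/-!
# Inner automorphisms of prime order `p ≥ 5` of the exceptional groups of characteristic `r ≠ p`, `RC` for the subgroups
# whose solvable radical is an `r'`-group

* `fixR_or_not_dvd` : `y ∈ C(c)`: `y` normalises an `r`-subgroup `≠ 1` or `r ∤ |Rad C(c)|`;
* `inner_of_model'` : `conj y` acts trivially on `M / Rad M` for the proper invariant subgroups `M` with `r ∤ |Rad M|`: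
  `y` normalises an `r`-subgroup `≠ 1` or the Sylow `p`-subgroups are cyclic;
* `inner_two` : `r = 2`, the exceptional groups.
-/

set_option autoImplicit false
set_option linter.unusedSectionVars false

namespace Cfsg.Agent.H724.Inv.InnerTwo

open CoxeterSystem Subgroup Cfsg Cfsg.Lie Cfsg.Lie.ChevalleyDatum
open Cfsg.Agent.ChevalleyStructure Cfsg.Agent.ChevalleyStructure.Elts Cfsg.Agent.ChevalleyStructure.CoxeterGeom
  Cfsg.Agent.ChevalleyStructure.CoxeterGeomTypes Cfsg.Agent.ChevalleyStructure.NPerm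
open Cfsg.Agent.Tits.Roots Cfsg.Agent.Tits.Core Cfsg.Agent.Nodes Cfsg.Agent.Nodes.Reps Cfsg.Agent.Nodes.BNOf
  Cfsg.Agent.Nodes.RGDChev Cfsg.Agent.Nodes.Bruhat Cfsg.Agent.Nodes.NormalForm
open Cfsg.Agent.KFacts.RgdField Cfsg.Agent.KFacts.RgdChevCoord
open Cfsg.Agent.BpExc Cfsg.Agent.BpExc.FamField Cfsg.Agent.BpExc.TorCent Cfsg.Agent.BpExc.TorChev Cfsg.Agent.BpExc.Tow
  Cfsg.Agent.BpExc.TowChev Cfsg.Agent.BpExc.Fr Cfsg.Agent.BpExc.Pair Cfsg.Agent.BpExc.LangFr Cfsg.Agent.GpExc.Field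
  Cfsg.Agent.BpExc.FamUntw Cfsg.Agent.BpExc.FamInst
open Cfsg.Agent.H469.Exc Cfsg.Agent.H459.Rad Cfsg.Agent.H459.Iface

universe u v

variable {D : ChevalleyDatum} {l : ℕ} {M : CoxeterMatrix (Fin l)} {hp : IsType D l M} {r : ℕ} [hr : Fact r.Prime]
  {K₀ : Type v} [Group K₀]

/-- `y ∈ C(c)` normalises a Sylow `r`-subgroup of `Rad C(c)`. -/
theorem fixR_or_not_dvd [Finite K₀] {p : ℕ} [hpf : Fact p.Prime] (h5 : 5 ≤ p) (hpr : p ≠ r)
    {σ : MulAut ↥(D.group (KK r))} {g : (Fin l → ℤ) ≃+ (Fin l → ℤ)} {e : ℕ} (ι : K₀ →* ↥(D.group (KK r)))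
    (he : 0 < e) (hσ : IsFrob r e σ) (Fσ : Fr M.toCoxeterSystem hp.isCartan (TT D (KK r)) (XX D l (KK r)) σ g)
    [Finite ↥(fixedSubgroup σ)] (hι : Function.Injective ι) (hfix : ∀ a, σ (ι a) = ι a)
    (hidx : ∀ y, σ y = y → ∃ m : ℕ, m.Coprime r ∧ y ^ m ∈ ι.range)
    {c : K₀} (hcp : c ^ p = 1) {z : ↥(D.group (KK r))} (hz : z * ι c * z⁻¹ ∈ TT D (KK r))
    (hne : (Sx M.toCoxeterSystem hp.isCartan (ch hp) (z * ι c * z⁻¹)).Nonempty)
    {y : K₀} (hyp : y ^ p = 1) (hyc : y ∈ centralizer ({c} : Set K₀)) :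
    FixR r (MulAut.conj y) ∨ ¬ r ∣ Nat.card (solvableRadical (centralizer ({c} : Set K₀))) := by
  classical
  have hk := locFin r
  have hp2 : p ≠ 2 := by omega
  have hp3 : r = 2 → p ≠ 3 := fun _ => by omega
  obtain ⟨V, ⟨Q, hQ⟩, ⟨u, huV, huC, hu1⟩, hkey⟩ := Cfsg.Agent.H605.Exc.FixNorm.fixNorm hp M.toCoxeterSystem hk hpf.out hpr he hσ Fσ
    (hfix c) (by rw [← map_pow, hcp, map_one]) hz hne hpf.out hp2 hp3
  set C := centralizer ({c} : Set K₀) with hC
  -- the embedding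
  have hmem : ∀ m : C, ι m ∈ fixC σ (ι c) := fun m => mem_fixC.2 ⟨hfix _, by
    rw [← map_mul, ← map_mul, mem_centralizer_singleton_iff.1 m.2]⟩
  let j : C →* ↥(fixC σ (ι c)) := (ι.comp C.subtype).codRestrict _ hmem
  have hj : ∀ m : C, ((j m : ↥(fixC σ (ι c))) : ↥(D.group (KK r))) = ι m := fun _ => rfl
  have hjinj : Function.Injective j := by
    intro a b hab
    have h1 := congrArg Subtype.val hab
    rw [hj, hj] at h1
    exact Subtype.ext (hι h1)
  have hmemQ : ∀ w : ↥(fixC σ (ι c)), w ∈ (Q : Subgroup ↥(fixC σ (ι c))) ↔ (w : ↥(D.group (KK r))) ∈ V := fun w => by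
    rw [hQ, mem_subgroupOf]
  have hQj : (Q : Subgroup ↥(fixC σ (ι c))) ≤ j.range := by
    intro w hw
    obtain ⟨i, hi⟩ := Q.isPGroup' ⟨w, hw⟩
    have hi' : (w : ↥(D.group (KK r))) ^ r ^ i = 1 :=
      congrArg (fun a => ((a : (Q : Subgroup ↥(fixC σ (ι c)))) : ↥(fixC σ (ι c))).1) hi
    obtain ⟨h1, h2⟩ := mem_fixC.1 w.2
    obtain ⟨m, hm, hmr⟩ := hidx w h1
    obtain ⟨a, ha⟩ := mem_of_pow hi' hm hmr
    refine ⟨⟨a, ?_⟩, Subtype.ext ha⟩
    rw [hC, mem_centralizer_singleton_iff]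
    apply hι
    rw [map_mul, map_mul, ha, h2]
  have hfC : Finite C := inferInstance
  let Q₀ : Sylow r C := Q.comapOfInjective j hjinj hQj
  have hQ₀ : ∀ m : C, m ∈ (Q₀ : Subgroup C) ↔ ι m ∈ V := fun m => by
    show j m ∈ (Q : Subgroup ↥(fixC σ (ι c))) ↔ _
    rw [hmemQ, hj]
  obtain ⟨P, hP⟩ := RadNorm.exists_norm_inf (G := C) hpr (R := solvableRadical C) (rad_solvable C)
    (y := ⟨y, hyc⟩) ⟨1, by rw [pow_one]; exact Subtype.ext hyp⟩ Q₀ (fun E hE1 hE2 w hw q hq => by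
      have h1 := hkey (E.map (ι.comp C.subtype)) (by
          rintro _ ⟨m, hm, rfl⟩
          exact hmem m) (by
          rintro v ⟨hv1, hv2⟩
          have h2 : (⟨v, hv2⟩ : ↥(fixC σ (ι c))) ∈ (Q : Subgroup ↥(fixC σ (ι c))) := (hmemQ _).2 hv1
          obtain ⟨m, hm⟩ := hQj h2
          have hm' : ι m = v := congrArg Subtype.val hm
          refine ⟨m, hE1 ((hQ₀ m).2 (by rw [hm']; exact hv1)), hm'⟩) (by
          rintro _ ⟨m, hm, rfl⟩
          obtain ⟨a, b, h2⟩ := hE2 m hm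
          exact ⟨a, b, by rw [← map_pow, h2, map_one]⟩) (ι w) ⟨w, hw, rfl⟩
      rw [hQ₀]
      have h2 := (mem_normalizer_iff.1 h1 (ι q)).1 ((hQ₀ q).1 hq)
      rw [Subgroup.coe_mul, Subgroup.coe_mul, Subgroup.coe_inv, map_mul, map_mul, map_inv]
      exact h2)
  rw [or_iff_not_imp_right, not_not]
  intro hdvd
  refine ⟨((P : Subgroup (solvableRadical C)).map (solvableRadical C).subtype).map C.subtype, ?_,
    (P.isPGroup'.map _).map _, ?_⟩
  · intro h1
    rw [(Subgroup.map_eq_bot_iff_of_injective _ C.subtype_injective),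
      (Subgroup.map_eq_bot_iff_of_injective _ (solvableRadical C).subtype_injective)] at h1
    have h2 := P.dvd_card_of_dvd_card hdvd
    rw [h1, card_bot] at h2
    exact hr.out.one_lt.ne' (Nat.dvd_one.1 h2)
  · rintro _ ⟨a, ha, rfl⟩
    refine ⟨⟨y, hyc⟩ * a * ⟨y, hyc⟩⁻¹, hP a ha, rfl⟩

/-- **The inner automorphisms with `RC` for the subgroups with `r ∤ |Rad M|`.** -/
theorem inner_of_model' (h : Model hp r K₀) [Finite K₀] (hZ : center K₀ = ⊥) {p : ℕ} [hpf : Fact p.Prime] (h5 : 5 ≤ p)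
    (hpr : p ≠ r) (hreg : NonReg hp p) (hl : 0 < l) {y : K₀} (hy : orderOf y = p) 
    (hRC : ∀ M : Subgroup K₀, M ≠ ⊤ → (∀ m ∈ M, MulAut.conj y m ∈ M) → ¬ r ∣ Nat.card (solvableRadical M) →
      ∀ m ∈ M, m⁻¹ * MulAut.conj y m ∈ radIn M) :
    FixR r (MulAut.conj y) ∨ ∀ P : Sylow p K₀, IsCyclic (P : Subgroup K₀) := by
  classical
  rw [or_iff_not_imp_right]
  intro hnc
  push Not at hnc
  obtain ⟨P₀, hP₀⟩ := hnc
  have hpp := hpf.out
  have hp2 : p ≠ 2 := by omega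
  have hyp : y ^ p = 1 := by rw [← hy]; exact pow_orderOf_eq_one y
  -- a Sylow subgroup containing `y`
  have hyP : IsPGroup p (zpowers y) := by
    refine IsPGroup.of_card (n := 1) ?_
    rw [Nat.card_zpowers, hy, pow_one]
  obtain ⟨P, hP⟩ := hyP.exists_le_sylow
  have hPnc : ¬ IsCyclic (P : Subgroup K₀) := fun hc => hP₀ (isCyclic_of_surjective (P.equiv P₀) (P.equiv P₀).surjective)
  obtain ⟨b, hby, hbp, hbn⟩ := Cfsg.Agent.H605.Exc.Hall.exists_commute hp2 P.isPGroup' hPnc (hP (mem_zpowers y)) hy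
  obtain ⟨σ, g, e, ι, he, hσ, Fσ, hfin, hι, hfix, hidx⟩ := h
  have hk := locFin r
  -- `y` commuting with an `r`-element
  have key : ∀ (z : ↥(D.group (KK r))), z * ι y * z⁻¹ ∈ TT D (KK r) →
      (Sx M.toCoxeterSystem hp.isCartan (ch hp) (z * ι y * z⁻¹)).Nonempty → FixR r (MulAut.conj y) := by
    intro z hz hne
    obtain ⟨u, hu1, ⟨j, hj⟩, hσu, huc⟩ := exists_unip_fix hp M.toCoxeterSystem hk he hσ Fσ (hfix y) hz hne
    obtain ⟨m, hm, hmr⟩ := hidx u hσu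
    obtain ⟨u', rfl⟩ := mem_of_pow hj hm hmr
    refine FixR.of_mem (v := u') (fun h1 => hu1 (by rw [h1, map_one])) ?_ ⟨j, hι (by rw [map_pow, hj, map_one])⟩
    rw [MulAut.conj_apply]
    have h1 : u' * y = y * u' := hι (by rw [map_mul, map_mul]; exact huc)
    rw [← h1]; group
  obtain ⟨z, hz⟩ := TorAll.exists_toral' hp r hpp hpr (y := ι y) (by rw [← map_pow, hyp, map_one])
  have hz' : z⁻¹ * ι y * z⁻¹⁻¹ ∈ TT D (KK r) := by rwa [inv_inv]
  have hzp : (z⁻¹ * ι y * z⁻¹⁻¹) ^ p = 1 := by rw [conj_pow, ← map_pow, hyp, map_one, mul_one, mul_inv_cancel]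
  rcases hreg with hW | hW
  · have hα : IsRoot M.toCoxeterSystem hp.isCartan (sr (⟨0, hl⟩ : Fin l)) := isRoot_sr _ _ _
    rcases exists_common hp M.toCoxeterSystem (r := r) hk hpp hW hα (a := ι y) (b := ι b)
      (by rw [← map_mul, ← hby, map_mul]) (by rw [← map_pow, hyp, map_one]) (by rw [← map_pow, hbp, map_one]) hz' with
      h1 | ⟨i, h1, h2⟩
    · exact key _ hz' h1
    · have e1 : ι b * ι y ^ i = ι (b * y ^ i) := by rw [map_mul, map_pow]
      rw [e1] at h1 h2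
      set c := b * y ^ i with hc
      have hcy : Commute y c := by
        have h3 : Commute y b := hby.symm
        exact h3.mul_right (Commute.pow_right (Commute.refl y) i)
      have hcp : c ^ p = 1 := by
        have h3 : Commute b (y ^ i) := Commute.pow_right hby i
        rw [hc, h3.mul_pow, hbp, one_mul, ← pow_mul, mul_comm i p, pow_mul, hyp, one_pow]
      have hc1 : c ≠ 1 := by
        intro h3
        apply hbn
        rw [eq_inv_of_mul_eq_one_left h3]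
        exact inv_mem (pow_mem (mem_zpowers y) i)
      have hyc : y ∈ centralizer ({c} : Set K₀) := mem_centralizer_singleton_iff.2 hcy.eq
      have hCtop : centralizer ({c} : Set K₀) ≠ ⊤ := by
        intro h3
        apply hc1
        have h4 : c ∈ center K₀ := by
          rw [mem_center_iff]
          intro g
          have : g ∈ centralizer ({c} : Set K₀) := by rw [h3]; exact mem_top g
          exact mem_centralizer_singleton_iff.1 this
        rwa [hZ, mem_bot] at h4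
      rcases fixR_or_not_dvd h5 hpr ι he hσ Fσ hι hfix hidx hcp h1 h2 hyp hyc with hF | hodd
      · exact hF
      have hrad : (⟨y, hyc⟩ : centralizer ({c} : Set K₀)) ∈ solvableRadical (centralizer ({c} : Set K₀)) := by
        apply mem_rad_of_commutator
        intro m
        have h3 := hRC (centralizer ({c} : Set K₀)) hCtop (fun m hm => mul_mem (mul_mem hyc hm) (inv_mem hyc)) hodd m m.2
        exact mem_radIn_coe.1 h3
      exact Cfsg.Agent.H605.Exc.Inner.fixR_of_mem_rad h5 hpr ι he hσ Fσ hι hfix hidx hcp h1 h2 hyp hyc hrad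
  · exact key _ hz' (hW (KK r) r hk _ hz' hzp)

section exc

open Cfsg Cfsg.Lie Cfsg.Agent.Nodes.RGDChev Cfsg.Agent.BpTab Cfsg.Agent.BpExc
open Cfsg.Agent.H469.Exc Cfsg.Agent.H459.Rad Cfsg.Agent.H459.Iface

variable {r : ℕ} [hr : Fact r.Prime] {K : Type u} [Group K] [Finite K] [IsSimpleGroup K]

theorem of_model {D : ChevalleyDatum} {l : ℕ} {M : CoxeterMatrix (Fin l)} {hp : IsType D l M} (h : Model hp r K)
    {p : ℕ} [hpf : Fact p.Prime] (h5 : 5 ≤ p) (hpr : p ≠ r) (hreg : NonReg hp p) (hl : 0 < l) {y : K}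
    (hy : orderOf y = p) 
    (hRC : ∀ M : Subgroup K, M ≠ ⊤ → (∀ m ∈ M, MulAut.conj y m ∈ M) → ¬ r ∣ Nat.card (solvableRadical M) →
      ∀ m ∈ M, m⁻¹ * MulAut.conj y m ∈ radIn M) :
    FixR r (MulAut.conj y) ∨ ∀ P : Sylow p K, IsCyclic (P : Subgroup K) := by
  rcases (inferInstance : (Subgroup.center K).Normal).eq_bot_or_eq_top with hZ | hZ
  · exact inner_of_model' h hZ h5 hpr hreg hl hy hRC
  · right
    intro P
    have hc : ∀ a b : K, a * b = b * a := fun a b => by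
      have : b ∈ Subgroup.center K := by rw [hZ]; exact Subgroup.mem_top b
      exact Subgroup.mem_center_iff.1 this a
    let _ : CommGroup K := { (inferInstance : Group K) with mul_comm := hc }
    have h1 : IsCyclic K := IsSimpleGroup.isCyclic
    exact Subgroup.isCyclic _

/-- **`G₂(q)`, `F₄(q)`, `E₆(q)`, `E₇(q)`, `E₈(q)`.** -/
theorem inner_chev (h : IsExceptionalChevChar r K) {p : ℕ} [hpf : Fact p.Prime] (h5 : 5 ≤ p) (hpr : p ≠ r) {y : K}
    (hy : orderOf y = p) 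
    (hRC : ∀ M : Subgroup K, M ≠ ⊤ → (∀ m ∈ M, MulAut.conj y m ∈ M) → ¬ r ∣ Nat.card (solvableRadical M) →
      ∀ m ∈ M, m⁻¹ * MulAut.conj y m ∈ radIn M) :
    FixR r (MulAut.conj y) ∨ ∀ P : Sylow p K, IsCyclic (P : Subgroup K) := by
  have h1 := hpf.out
  have h2 : p ≠ 2 := by omega
  obtain ⟨F, _, _, _, h⟩ := h
  rcases h with ⟨-, ⟨e⟩⟩ | ⟨⟨e⟩⟩ | ⟨⟨e⟩⟩ | ⟨⟨e⟩⟩ | ⟨⟨e⟩⟩
  · exact of_model ((model_untw (r := r) RowsUntw.g2T F).congr e) h5 hpr (nonReg_G2 _ h1 h2) (by norm_num) hy hRC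
  · exact of_model ((model_untw (r := r) RowsUntw.f4T F).congr e) h5 hpr (nonReg_F4 _ h1 h2) (by norm_num) hy hRC
  · exact of_model ((model_untw (r := r) RowsUntw.e6T F).congr e) h5 hpr (nonReg_E6 _ h1 h2) (by norm_num) hy hRC
  · exact of_model ((model_untw (r := r) RowsUntw.e7T F).congr e) h5 hpr (nonReg_E7 _ h1 h2) (by norm_num) hy hRC
  · exact of_model ((model_untw (r := r) RowsUntw.e8T F).congr e) h5 hpr (nonReg_E8 _ h1 h2) (by norm_num) hy hRC

/-- **`²E₆(q)`, `³D₄(q)`.** -/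
theorem inner_tw (h : IsTwistedE6D4Char r K) {p : ℕ} [hpf : Fact p.Prime] (h5 : 5 ≤ p) (hpr : p ≠ r) {y : K}
    (hy : orderOf y = p) 
    (hRC : ∀ M : Subgroup K, M ≠ ⊤ → (∀ m ∈ M, MulAut.conj y m ∈ M) → ¬ r ∣ Nat.card (solvableRadical M) →
      ∀ m ∈ M, m⁻¹ * MulAut.conj y m ∈ radIn M) :
    FixR r (MulAut.conj y) ∨ ∀ P : Sylow p K, IsCyclic (P : Subgroup K) := by
  have h1 := hpf.out
  have h2 : p ≠ 2 := by omega
  obtain ⟨F, _, _, _, q, hq, h⟩ := h
  rcases h with ⟨hK, ⟨e⟩⟩ | ⟨hK, ⟨e⟩⟩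
  · exact of_model ((model_twE6 (r := r) hq hK).congr e) h5 hpr (nonReg_E6 _ h1 h2) (by norm_num) hy hRC
  · exact of_model ((model_twD4 (r := r) hq hK).congr e) h5 hpr (nonReg_D4 _ h1 h2) (by norm_num) hy hRC

/-- **The inner part of `ExcAt`.** -/
theorem inner_excAt (h : IsExceptionalChevChar r K ∨ IsTwistedE6D4Char r K) {p : ℕ} [hpf : Fact p.Prime] (h5 : 5 ≤ p)
    (hpr : p ≠ r) {y : K} (hy : orderOf y = p) 
    (hRC : ∀ M : Subgroup K, M ≠ ⊤ → (∀ m ∈ M, MulAut.conj y m ∈ M) → ¬ r ∣ Nat.card (solvableRadical M) →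
      ∀ m ∈ M, m⁻¹ * MulAut.conj y m ∈ radIn M) :
    FixR r (MulAut.conj y) ∨ ∀ P : Sylow p K, IsCyclic (P : Subgroup K) :=
  h.elim (fun h => inner_chev h h5 hpr hy hRC) fun h => inner_tw h h5 hpr hy hRC

/-- **`q` even: `x` inner, `RC` for the subgroups with solvable radical of odd order.** -/
theorem inner_two {K : Type u} [Group K] [Finite K] [IsSimpleGroup K]
    (h : IsExceptionalChevChar 2 K ∨ IsTwistedE6D4Char 2 K) {p : ℕ} (hpp : p.Prime) (h5 : 5 ≤ p) {y : K}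
    (hy : orderOf y = p)
    (hR : ∀ M : Subgroup K, M ≠ ⊤ → (∀ m ∈ M, MulAut.conj y m ∈ M) → Odd (Nat.card (solvableRadical M)) →
      ∀ m ∈ M, m⁻¹ * MulAut.conj y m ∈ radIn M) :
    FixR 2 (MulAut.conj y) ∨ ∀ P : Sylow p K, IsCyclic (P : Subgroup K) := by
  have := Fact.mk hpp
  have := Fact.mk Nat.prime_two
  exact inner_excAt h h5 (by omega) hy fun M hM hinv hodd =>
    hR M hM hinv (Nat.odd_iff.2 (by omega))

end exc

end Cfsg.Agent.H724.Inv.InnerTwo
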